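import Groth.Agent.ThickFPLib.Alg
import Groth.Agent.ThickPCLib.Main
import Groth.Agent.FlatFunLimLib.Main
import Groth.Agent.RichLib.ModFlatGlobal
import Groth.Agent.DivDescLib.Local
import Groth.Agent.IntTensorLib.Length
import Groth.Agent.AlgSpRegLib.CartierSpace
import Groth.Agent.HilbLCLib.Basic
import Groth.Agent.CurvLib.EulerTensor
import Groth.Agent.RelFlatLib.RelOpen
import Groth.Agent.TFModLib.Tower
import Groth.Agent.PerfLib.FiniteType

/-!
# Finite presentation descends along thickenings, for modules flat over the base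
-/

set_option autoImplicit false
set_option linter.style.haveILetI false
set_option backward.isDefEq.respectTransparency false
set_option backward.isDefEq.respectTransparency.types false
set_option maxHeartbeats 1000000

noncomputable section

universe u

open CategoryTheory CategoryTheory.Limits AlgebraicGeometry TopologicalSpace Opposite
open Groth.Agent
open DevissLib (St)

namespace ThickFPLib

theorem nilpotent_ker_of_iso {A B A' B' : CommRingCat.{u}} {f : A ⟶ B} {g : A' ⟶ B'} (e : Arrow.mk f ≅ Arrow.mk g)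
    (h : IsNilpotent (RingHom.ker g.hom)) : IsNilpotent (RingHom.ker f.hom) := by
  obtain ⟨m, hm⟩ := h
  have hle : (RingHom.ker f.hom).map e.hom.left.hom ≤ RingHom.ker g.hom := by
    rw [Ideal.map_le_iff_le_comap]
    intro a ha
    show g.hom (e.hom.left.hom a) = 0
    have := ConcreteCategory.congr_hom (Arrow.w e.hom) a
    exact this.trans ((congrArg e.hom.right.hom (show f.hom a = 0 from ha)).trans (map_zero _))
  have hinj : Function.Injective e.hom.left.hom := (ConcreteCategory.bijective_of_isIso e.hom.left).1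
  refine ⟨m, (Submodule.eq_bot_iff _).2 fun a ha => hinj ?_⟩
  rw [map_zero]
  have h1 := Ideal.mem_map_of_mem e.hom.left.hom ha
  rw [Ideal.map_pow] at h1
  have h2 := Ideal.pow_right_mono hle m h1
  rw [hm] at h2
  exact h2

variable {Y W T T' : Scheme.{u}} (i : Y ⟶ W) (q : Y ⟶ T) (q' : W ⟶ T') (t : T ⟶ T')
  (hsq : IsPullback i q q' t) [IsClosedImmersion i] [IsClosedImmersion t]

include hsq in
/-- The kernels on stalks are extended from the base. -/
theorem ker_stalkMap (z : Y) :
    RingHom.ker (i.stalkMap z).hom = (IntMult.stalkIdeal t.ker (q' (i z))).map (q'.stalkMap (i z)).hom := by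
  rw [IntTensorLib.ker_stalkMap_eq_stalkIdeal, AlgSpRegLib.ker_of_isPullback hsq.flip,
    DivDescLib.stalkIdeal_comap]

include hsq in
/-- The kernel of a finite free cover of a module flat over the base is of finite type. -/
theorem isFT_kernel_of_pullback [Surjective i] (hn : ∀ x : Y, IsNilpotent (RingHom.ker (i.stalkMap x).hom))
    {A M : W.Modules} (hA : KFlatLib.IsFinFree A) (p : A ⟶ M) [Epi p]
    (hM : FlatMod.IsFlatOver q' M) (hG : CohB1.IsFP ((Scheme.Modules.pullback i).obj M)) :
    CohB1.IsFT (kernel p) := by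
  refine ThickPCLib.isFT_of_pullback i hn _ ?_
  let S : ShortComplex W.Modules := ShortComplex.mk (kernel.ι p) p (kernel.condition p)
  have hS : S.ShortExact :=
    { exact := ShortComplex.exact_kernel p
      mono_f := inferInstanceAs (Mono (kernel.ι p))
      epi_g := inferInstanceAs (Epi p) }
  let Φ := Scheme.Modules.pullback i
  haveI : Mono (Φ.map (kernel.ι p)) := by
    refine TFModLib.mono_of_stalks _ fun z => (injective_iff_map_eq_zero _).1 ?_
    haveI := hS.mono_f
    haveI := hS.epi_g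
    have hex := (ShortComplex.ShortExact.moduleCat_exact_iff_function_exact _).1 (hS.exact.map (St (i z)))
    have hinj := extendScalars_map_injective (q'.stalkMap (i z)).hom (i.stalkMap z).hom
      (IntMult.stalkIdeal t.ker (q' (i z))) (i.stalkMap_surjective z) (ker_stalkMap i q q' t hsq z)
      ((St (i z)).map S.f) ((St (i z)).map S.g)
      ((ModuleCat.mono_iff_injective _).1 inferInstance) ((ModuleCat.epi_iff_surjective _).1 inferInstance) hex
      (hM (i z))
    haveI : Mono ((ModuleCat.extendScalars.{u, u, u} (i.stalkMap z).hom).map ((St (i z)).map S.f)) :=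
      (ModuleCat.mono_iff_injective _).2 hinj
    exact (ModuleCat.mono_iff_injective _).1
      (((MorphismProperty.monomorphisms _).arrow_mk_iso_iff
        (Arrow.isoMk ((KFlatLib.stalkPullIso i z).app _) ((KFlatLib.stalkPullIso i z).app _)
          ((KFlatLib.stalkPullIso i z).hom.naturality S.f).symm)).2 inferInstance :
        Mono ((St z).map (Φ.map (kernel.ι p))))
  haveI : Epi (Φ.map p) := inferInstance
  have hex' : (S.map Φ).Exact :=
    ShortComplex.exact_of_g_is_cokernel _ (CokernelCofork.mapIsColimit _ hS.gIsCokernel Φ)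
  haveI : Mono (S.map Φ).f := inferInstanceAs (Mono (Φ.map (kernel.ι p)))
  have e : Φ.obj (kernel p) ≅ kernel (Φ.map p) := IsLimit.conePointUniqueUpToIso hex'.fIsKernel (limit.isLimit _)
  obtain ⟨n, ⟨eA⟩⟩ := hA
  haveI : Coh.IsQCoh A :=
    haveI := CurvLib.isQCoh_freeMod W n
    QCohLib.isQCoh_of_iso eA.symm
  haveI : Coh.IsQCoh (Φ.obj A) := KFlatLib.isQCoh_pullback i A
  haveI : Coh.IsQCoh (Φ.obj M) := HilbLCLib.isQCoh_of_isFP hG
  refine QCohLib.isFT_of_iso e.symm (FlatFunLimLib.isFT_kernel ?_ hG (Φ.map p))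
  exact ConsLib.isFT_pullback i A (QCohLib.isFT_of_iso eA.symm (PerfLib.isFT_freeModule W n))

/-- A module with a finite free cover whose kernel is of finite type has free presentations near every point. -/
theorem exists_fpfree_nhd {A M : W.Modules} (hA : KFlatLib.IsFinFree A) (p : A ⟶ M) [Epi p]
    (hK : CohB1.IsFT (kernel p)) (w : W) :
    ∃ V : W.Opens, w ∈ V ∧ PerfLib.FPFree ((PerfLib.res V.ι).obj M) := by
  obtain ⟨V, hwV, n, s, hs⟩ := QCohLib.exists_genOn_of_isFT hK w
  let σ := (QCohLib.genTop_restrict hs).generatingSections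
  haveI : Epi σ.π := σ.epi
  haveI : Finite σ.I := inferInstanceAs (Finite (ULift.{u} (Fin n)))
  let R := PerfLib.res V.ι
  let c := cokernel.π (R.map (kernel.ι p))
  refine ⟨V, hwV, PerfLib.FPFree.of_iso (cokernelEpiComp σ.π (R.map (kernel.ι p)) ≪≫
    (PreservesCokernel.iso R (kernel.ι p)).symm ≪≫ R.mapIso (IsColimit.coconePointUniqueUpToIso (cokernelIsCokernel (kernel.ι p))
      (Abelian.epiIsCokernelOfKernel (KernelFork.ofι (kernel.ι p) (kernel.condition p)) (kernelIsKernel p))))
    ⟨_, _, σ.π ≫ R.map (kernel.ι p), PerfLib.isFinFree_free σ.I, PerfLib.isFinFree_res V.ι hA, ⟨Iso.refl _⟩⟩⟩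

/-- Base changes of thickenings have nilpotent stalk kernels. -/
theorem isNilpotent_ker_of_base {X X' T T' : Scheme.{u}} (i : X ⟶ X') (q : X ⟶ T) (q' : X' ⟶ T') (t : T ⟶ T')
    (hsq : IsPullback i q q' t) [IsClosedImmersion i] [IsClosedImmersion t] [Surjective t] (ht : IsNilpotent t.ker) (x : X) :
    IsNilpotent (RingHom.ker (i.stalkMap x).hom) := by
  obtain ⟨y, hy⟩ := t.surjective (q' (i x))
  obtain ⟨m, hm⟩ := ThickPCLib.isNilpotent_ker_stalkMap t ht y
  rw [IntTensorLib.ker_stalkMap_eq_stalkIdeal, hy] at hm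
  refine ⟨m, ?_⟩
  rw [ker_stalkMap i q q' t hsq x, ← Ideal.map_pow, hm]
  exact Ideal.map_bot

end ThickFPLib

namespace ThickFPLib

variable {X X' T T' : Scheme.{u}}

/-- Finite presentation descends along a first order thickening, for modules flat over the base. -/
theorem isFP_of_pullback (i : X ⟶ X') (q : X ⟶ T) (q' : X' ⟶ T') (t : T ⟶ T') (hsq : IsPullback i q q' t)
    [IsClosedImmersion i] [Surjective i] [IsClosedImmersion t] (hi : ∀ x : X, IsNilpotent (RingHom.ker (i.stalkMap x).hom))
    (M : X'.Modules) (hM : FlatMod.IsFlatOver q' M) (hG : CohB1.IsFP ((Scheme.Modules.pullback i).obj M)) :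
    CohB1.IsFP M := by
  haveI := HilbLCLib.isQCoh_of_isFP hG
  have hFT : CohB1.IsFT M :=
    ThickPCLib.isFT_of_pullback i hi M (FlatFunLimLib.isFT_of_isFP' hG)
  refine PerfLib.isFP_of_local fun x => ?_
  obtain ⟨U, hxU, n, s, hs⟩ := QCohLib.exists_genOn_of_isFT hFT x
  let σ := (QCohLib.genTop_restrict hs).generatingSections
  haveI : Epi σ.π := σ.epi
  haveI : Finite σ.I := inferInstanceAs (Finite (ULift.{u} (Fin n)))
  haveI : IsClosedImmersion (i ∣_ U) := MorphismProperty.of_isPullback (isPullback_morphismRestrict i U).flip inferInstance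
  haveI : Surjective (i ∣_ U) := MorphismProperty.of_isPullback (isPullback_morphismRestrict i U).flip inferInstance
  have hsqU : IsPullback (i ∣_ U) ((i ⁻¹ᵁ U).ι ≫ q) (U.ι ≫ q') t :=
    (isPullback_morphismRestrict i U).paste_vert hsq
  have hn : ∀ z : (i ⁻¹ᵁ U : X.Opens).toScheme, IsNilpotent (RingHom.ker ((i ∣_ U).stalkMap z).hom) := by
    intro z
    obtain ⟨m, hm⟩ := hi ((i ⁻¹ᵁ U).ι z)
    let e := morphismRestrictStalkMap i U z
    have hc : IsNilpotent (RingHom.ker (i.stalkMap ((i ⁻¹ᵁ U).ι z)).hom) := ⟨m, hm⟩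
    exact nilpotent_ker_of_iso e hc
  have hGU : CohB1.IsFP ((Scheme.Modules.pullback (i ∣_ U)).obj ((PerfLib.res U.ι).obj M)) := by
    refine PerfLib.isFP_of_iso' ?_ (RichLib.ModFlat.isFP_pullback (i ⁻¹ᵁ U).ι hG)
    exact (Scheme.Modules.pullbackComp (i ⁻¹ᵁ U).ι i).app M ≪≫
      (Scheme.Modules.pullbackCongr (morphismRestrict_ι i U).symm).app M ≪≫
      ((Scheme.Modules.pullbackComp (i ∣_ U) U.ι).app M).symm ≪≫
      (Scheme.Modules.pullback (i ∣_ U)).mapIso ((Scheme.Modules.restrictFunctorIsoPullback U.ι).app M).symm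
  have hK := isFT_kernel_of_pullback (i ∣_ U) _ (U.ι ≫ q') t hsqU hn (PerfLib.isFinFree_free σ.I) σ.π
    (RelFlatLib.isFlatOver_res_of U.ι fun z => hM (U.ι z)) hGU
  obtain ⟨V, hxV, hV⟩ := exists_fpfree_nhd (PerfLib.isFinFree_free σ.I) σ.π hK ⟨x, hxU⟩
  exact ⟨V, V.ι ≫ U.ι, inferInstance, ⟨⟨x, hxU⟩, hxV⟩, rfl,
    hV.of_iso ((Scheme.Modules.restrictFunctorComp V.ι U.ι).symm.app M)⟩

end ThickFPLib
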