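import Groth.Agent.DevissLib.KilledImm
import Mathlib.RingTheory.Flat.Equalizer
import Mathlib.Algebra.Category.ModuleCat.ChangeOfRings

/-!
# Base change along quotients by ideals extended from a base over which the cokernel is flat
-/

set_option autoImplicit false
set_option linter.style.haveILetI false

universe u

open CategoryTheory
open scoped TensorProduct

namespace ThickFPLib

theorem one_tmul_eq_zero_iff {A B : Type u} [CommRing A] [CommRing B] [Algebra A B]
    {M : Type u} [AddCommGroup M] [Module A M] (hs : Function.Surjective (algebraMap A B)) (x : M) :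
    (1 : B) ⊗ₜ[A] x = 0 ↔ x ∈ RingHom.ker (algebraMap A B) • (⊤ : Submodule A M) := by
  refine ⟨fun h => ?_, fun h => ?_⟩
  · let N := RingHom.ker (algebraMap A B) • (⊤ : Submodule A M)
    have hk : ∀ a : A, algebraMap A B a = 0 → ∀ m : M ⧸ N, a • m = 0 := by
      intro a ha m
      obtain ⟨m, rfl⟩ := Submodule.mkQ_surjective N m
      rw [← map_smul]
      exact (Submodule.Quotient.mk_eq_zero N).2 (Submodule.smul_mem_smul ha trivial)
    have h' := congrArg (LinearMap.lTensor B N.mkQ) h
    rw [LinearMap.lTensor_tmul, map_zero] at h'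
    refine (Submodule.Quotient.mk_eq_zero N).1 ((DevissLib.bijective_one_tmul hs hk).1 ?_)
    exact h'.trans (TensorProduct.tmul_zero _ _).symm
  · refine Submodule.smul_induction_on h (fun a ha m _ => ?_) fun a b ha hb => ?_
    · rw [← TensorProduct.smul_tmul, Algebra.smul_def, (show algebraMap A B a = 0 from ha), zero_mul,
        TensorProduct.zero_tmul]
    · rw [TensorProduct.tmul_add, ha, hb, add_zero]

theorem exists_one_tmul {A B : Type u} [CommRing A] [CommRing B] [Algebra A B]
    {M : Type u} [AddCommGroup M] [Module A M] (hs : Function.Surjective (algebraMap A B)) (t : B ⊗[A] M) :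
    ∃ x : M, (1 : B) ⊗ₜ[A] x = t := by
  induction t using TensorProduct.induction_on with
  | zero => exact ⟨0, TensorProduct.tmul_zero _ _⟩
  | tmul b m =>
    obtain ⟨a, rfl⟩ := hs b
    exact ⟨a • m, by rw [← TensorProduct.smul_tmul, Algebra.smul_def, mul_one]⟩
  | add t t' h h' =>
    obtain ⟨x, rfl⟩ := h
    obtain ⟨y, rfl⟩ := h'
    exact ⟨x + y, TensorProduct.tmul_add _ _ _⟩

/-- If the ideal comes from a ring over which the cokernel is flat, reduction keeps the sequence left exact. -/
theorem lTensor_injective {R A B : Type u} [CommRing R] [CommRing A] [CommRing B] [Algebra R A] [Algebra A B]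
    (J : Ideal R) (hs : Function.Surjective (algebraMap A B))
    (hker : RingHom.ker (algebraMap A B) = J.map (algebraMap R A))
    {K F M : Type u} [AddCommGroup K] [AddCommGroup F] [AddCommGroup M] [Module A K] [Module A F] [Module A M]
    [Module R K] [Module R F] [Module R M] [IsScalarTower R A K] [IsScalarTower R A F] [IsScalarTower R A M]
    [Module.Flat R M] (f : K →ₗ[A] F) (g : F →ₗ[A] M) (hf : Function.Injective f)
    (hg : Function.Surjective g) (hex : Function.Exact f g) :
    Function.Injective (f.lTensor B) := by
  refine (injective_iff_map_eq_zero _).2 fun t ht => ?_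
  obtain ⟨k, rfl⟩ := exists_one_tmul hs t
  rw [LinearMap.lTensor_tmul, one_tmul_eq_zero_iff hs, hker] at ht
  have key : ∀ a ∈ J.map (algebraMap R A), ∀ m : F, a • m ∈ J • (⊤ : Submodule R F) := by
    intro a ha
    induction ha using Submodule.span_induction with
    | mem a ha =>
      obtain ⟨j, hj, rfl⟩ := ha
      intro m
      rw [algebraMap_smul]
      exact Submodule.smul_mem_smul hj trivial
    | zero => intro m; rw [zero_smul]; exact zero_mem _
    | add a b _ _ ha hb => intro m; rw [add_smul]; exact add_mem (ha m) (hb m)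
    | smul c a _ ha => intro m; rw [smul_eq_mul, mul_comm, mul_smul]; exact ha (c • m)
  have hfk : f k ∈ J • (⊤ : Submodule R F) := by
    exact Submodule.smul_induction_on ht (fun a ha m _ => key a ha m) fun a b ha hb => add_mem ha hb
  have hs' : Function.Surjective (algebraMap R (R ⧸ J)) := Ideal.Quotient.mk_surjective
  have hk' : RingHom.ker (algebraMap R (R ⧸ J)) = J := Ideal.mk_ker
  have h0 : (1 : R ⧸ J) ⊗ₜ[R] f k = 0 := (one_tmul_eq_zero_iff hs' _).2 (hk'.symm ▸ hfk)
  have hinj := LinearMap.lTensor_injective_of_exact_of_flat (g.restrictScalars R) hg (f.restrictScalars R) hf hex (R ⧸ J)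
  have hk : (1 : R ⧸ J) ⊗ₜ[R] k = 0 := hinj (by rw [LinearMap.lTensor_tmul, map_zero]; exact h0)
  have hmem : k ∈ J • (⊤ : Submodule R K) := hk' ▸ (one_tmul_eq_zero_iff hs' _).1 hk
  rw [one_tmul_eq_zero_iff hs, hker]
  refine Submodule.smul_induction_on hmem (fun j hj m _ => ?_) fun a b ha hb => add_mem ha hb
  rw [← algebraMap_smul A j m]
  exact Submodule.smul_mem_smul (Ideal.mem_map_of_mem _ hj) trivial

/-- The same, for categories of modules. -/
theorem extendScalars_map_injective {R A B : Type u} [CommRing R] [CommRing A] [CommRing B] (ρ : R →+* A) (φ : A →+* B)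
    (J : Ideal R) (hs : Function.Surjective φ) (hker : RingHom.ker φ = J.map ρ)
    {K F M : ModuleCat.{u} A} (f : K ⟶ F) (g : F ⟶ M) (hf : Function.Injective f.hom)
    (hg : Function.Surjective g.hom) (hex : Function.Exact f.hom g.hom)
    (hM : letI := Module.compHom M ρ; Module.Flat R M) :
    Function.Injective ((ModuleCat.extendScalars.{u, u, u} φ).map f).hom := by
  letI := φ.toAlgebra
  letI := ρ.toAlgebra
  letI := Module.compHom K ρ
  letI := Module.compHom F ρ
  letI := Module.compHom M ρ
  haveI : IsScalarTower R A K := IsScalarTower.of_algebraMap_smul fun r x => rfl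
  haveI : IsScalarTower R A F := IsScalarTower.of_algebraMap_smul fun r x => rfl
  haveI : IsScalarTower R A M := IsScalarTower.of_algebraMap_smul fun r x => rfl
  haveI : Module.Flat R M := hM
  exact lTensor_injective (R := R) (A := A) (B := B) J hs hker f.hom g.hom hf hg hex

end ThickFPLib
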